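import Cfsg.Agent.Lib.AutPSL.Basic
import Cfsg.Agent.Lib.Classical.GL2

/-!
`SL₂` as the two coordinate blocks of `SL₃`; the automorphisms of `SL₂` commuting with the diagonal
reflection; the diagonal form of two commuting involutions of `SL₃`.
-/

set_option autoImplicit false

open Matrix

namespace Cfsg.Agent.Chevalley.SingleBond

open Cfsg.Agent.AutPSL.Basic Cfsg.Agent.Classical.GL2

universe u

variable {F : Type u} [Field F]

local notation "S2" => Matrix.SpecialLinearGroup (Fin 2) F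
local notation "S3" => Matrix.SpecialLinearGroup (Fin 3) F
local notation "M2" => Matrix (Fin 2) (Fin 2) F
local notation "M3" => Matrix (Fin 3) (Fin 3) F

/-- The block of the first two coordinates. -/
def B01 : S2 →* S3 where
  toFun g := ⟨!![g.1 0 0, g.1 0 1, 0; g.1 1 0, g.1 1 1, 0; 0, 0, 1], by
    have h := g.2
    rw [det_fin_two] at h
    simp [det_fin_three]
    linear_combination h⟩
  map_one' := by
    refine Subtype.ext ?_
    ext i j
    fin_cases i <;> fin_cases j <;> simp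
  map_mul' g h := by
    refine Subtype.ext ?_
    change !![(g * h).1 0 0, (g * h).1 0 1, 0; (g * h).1 1 0, (g * h).1 1 1, 0; 0, 0, 1] = !![g.1 0 0, g.1 0 1, 0; g.1 1 0, g.1 1 1, 0; 0, 0, 1] * !![h.1 0 0, h.1 0 1, 0; h.1 1 0, h.1 1 1, 0; 0, 0, 1]
    ext i j
    fin_cases i <;> fin_cases j <;> simp [Matrix.mul_apply, Matrix.vecMul, dotProduct, Fin.sum_univ_three, Fin.sum_univ_two]

/-- The block of the last two coordinates. -/
def B12 : S2 →* S3 where
  toFun g := ⟨!![1, 0, 0; 0, g.1 0 0, g.1 0 1; 0, g.1 1 0, g.1 1 1], by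
    have h := g.2
    rw [det_fin_two] at h
    simp [det_fin_three]
    linear_combination h⟩
  map_one' := by
    refine Subtype.ext ?_
    ext i j
    fin_cases i <;> fin_cases j <;> simp
  map_mul' g h := by
    refine Subtype.ext ?_
    change !![1, 0, 0; 0, (g * h).1 0 0, (g * h).1 0 1; 0, (g * h).1 1 0, (g * h).1 1 1] = !![1, 0, 0; 0, g.1 0 0, g.1 0 1; 0, g.1 1 0, g.1 1 1] * !![1, 0, 0; 0, h.1 0 0, h.1 0 1; 0, h.1 1 0, h.1 1 1]
    ext i j
    fin_cases i <;> fin_cases j <;> simp [Matrix.mul_apply, Matrix.vecMul, dotProduct, Fin.sum_univ_three, Fin.sum_univ_two]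

theorem coe_B01 (g : S2) :
    (B01 g : M3) = !![g.1 0 0, g.1 0 1, 0; g.1 1 0, g.1 1 1, 0; 0, 0, 1] := rfl

theorem coe_B12 (g : S2) :
    (B12 g : M3) = !![1, 0, 0; 0, g.1 0 0, g.1 0 1; 0, g.1 1 0, g.1 1 1] := rfl

theorem B01_injective : Function.Injective (B01 (F := F)) := fun g h e => by
  refine Subtype.ext ?_
  have e' := congrArg Subtype.val e
  ext i j
  fin_cases i <;> fin_cases j
  exacts [congrFun (congrFun e' 0) 0, congrFun (congrFun e' 0) 1, congrFun (congrFun e' 1) 0,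
    congrFun (congrFun e' 1) 1]

theorem B12_injective : Function.Injective (B12 (F := F)) := fun g h e => by
  refine Subtype.ext ?_
  have e' := congrArg Subtype.val e
  ext i j
  fin_cases i <;> fin_cases j
  exacts [congrFun (congrFun e' 1) 1, congrFun (congrFun e' 1) 2, congrFun (congrFun e' 2) 1,
    congrFun (congrFun e' 2) 2]

/-- The central involution of `SL₂`. -/
def neg2 : S2 := ⟨!![-1, 0; 0, -1], by simp [det_fin_two]⟩

theorem coe_neg2 : ((neg2 : S2) : M2) = !![-1, 0; 0, -1] := rfl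

/-- The diagonal reflection. -/
def refl2 : GL (Fin 2) F :=
  ⟨!![1, 0; 0, -1], !![1, 0; 0, -1], by simp [one_fin_two], by simp [one_fin_two]⟩

/-- Conjugation by the diagonal reflection. -/
def dlt : MulAut S2 := conjSL refl2

theorem coe_dlt (g : S2) : (dlt g : M2) = !![g.1 0 0, -g.1 0 1; -g.1 1 0, g.1 1 1] := by
  change !![(1 : F), 0; 0, -1] * g.1 * !![(1 : F), 0; 0, -1] = _
  ext i j
  fin_cases i <;> fin_cases j <;> simp [Matrix.mul_apply, Matrix.vecMul, dotProduct, Fin.sum_univ_two]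

theorem sq_eq_one_two {g : Matrix.SpecialLinearGroup (Fin 2) F} (hg : g * g = 1) (h2 : (2 : F) ≠ 0) : g = 1 ∨ g = neg2 := by
  have h0 : g = g⁻¹ := eq_inv_of_mul_eq_one_left hg
  have h1 := congrArg Subtype.val h0
  rw [Matrix.SpecialLinearGroup.coe_inv, adjugate_fin_two] at h1
  have h01 : g.1 0 1 = 0 := by
    have := congrFun (congrFun h1 0) 1
    simp at this
    have h : 2 * g.1 0 1 = 0 := by linear_combination this
    exact (mul_eq_zero.1 h).resolve_left h2
  have h10 : g.1 1 0 = 0 := by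
    have := congrFun (congrFun h1 1) 0
    simp at this
    have h : 2 * g.1 1 0 = 0 := by linear_combination this
    exact (mul_eq_zero.1 h).resolve_left h2
  have h00 : g.1 0 0 = g.1 1 1 := by
    have := congrFun (congrFun h1 0) 0
    simpa using this
  have hd := g.2
  rw [det_fin_two, h01, ← h00] at hd
  have hsq : g.1 0 0 * g.1 0 0 = 1 := by linear_combination hd
  rcases mul_self_eq_one_iff.1 hsq with e | e
  · left
    refine Subtype.ext ?_
    ext i j
    fin_cases i <;> fin_cases j <;> simp [h01, h10, ← h00, e]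
  · right
    refine Subtype.ext ?_
    ext i j
    fin_cases i <;> fin_cases j <;> simp [neg2, h01, h10, ← h00, e]

/-- Every element of `SL₂` is generated by the two root subgroups. -/
theorem closure_roots :
    Subgroup.closure (Set.range (uniSL (F := F)) ∪ Set.range (lowSL (F := F))) = ⊤ := by
  rw [eq_top_iff, ← Cfsg.Agent.Classical.Linear.closure_transvectionSet (n := Fin 2) (F := F)]
  refine Subgroup.closure_mono ?_
  rintro _ ⟨i, j, h, c, rfl⟩
  fin_cases i <;> fin_cases j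
  · exact absurd rfl h
  · refine Or.inl ⟨c, Subtype.ext ?_⟩
    rw [Matrix.SpecialLinearGroup.transvection_coe, coe_uniSL]
    ext a b
    fin_cases a <;> fin_cases b <;> simp [Matrix.single]
  · refine Or.inr ⟨c, Subtype.ext ?_⟩
    rw [Matrix.SpecialLinearGroup.transvection_coe, coe_lowSL]
    ext a b
    fin_cases a <;> fin_cases b <;> simp [Matrix.single]
  · exact absurd rfl h

theorem hom_ext {G : Type*} [Group G] {f g : S2 →* G} (hu : ∀ t, f (uniSL t) = g (uniSL t))
    (hl : ∀ t, f (lowSL t) = g (lowSL t)) : f = g := by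
  refine MonoidHom.eq_of_eqOn_dense closure_roots ?_
  rintro _ (⟨t, rfl⟩ | ⟨t, rfl⟩)
  exacts [hu t, hl t]

theorem lowSL_mul (a b : F) : lowSL a * lowSL b = lowSL (a + b) := by
  refine Subtype.ext ?_
  rw [Matrix.SpecialLinearGroup.coe_mul, coe_lowSL, coe_lowSL, coe_lowSL]
  simp

theorem uniSL_inj {a b : F} (h : uniSL a = uniSL b) : a = b := by
  simpa [coe_uniSL] using congrArg (fun g : S2 => g.1 0 1) h

theorem lowSL_inj {a b : F} (h : lowSL a = lowSL b) : a = b := by
  simpa [coe_lowSL] using congrArg (fun g : S2 => g.1 1 0) h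

theorem uniSL_pow (t : F) (n : ℕ) : uniSL t ^ n = uniSL ((n : F) * t) := by
  induction n with
  | zero => simp [uniSL_zero]
  | succ n ih => rw [pow_succ, ih, uniSL_mul]; push_cast; ring_nf

theorem lowSL_zero : lowSL (0 : F) = 1 := by
  refine Subtype.ext ?_
  rw [coe_lowSL, Matrix.SpecialLinearGroup.coe_one, one_fin_two]

theorem lowSL_pow (t : F) (n : ℕ) : lowSL t ^ n = lowSL ((n : F) * t) := by
  induction n with
  | zero => simp [lowSL_zero]
  | succ n ih => rw [pow_succ, ih, lowSL_mul]; push_cast; ring_nf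

/-- The elements of order `p` inverted by the reflection lie in the root subgroups. -/
theorem mem_roots {p : ℕ} [Fact p.Prime] [CharP F p] (hp2 : (2 : F) ≠ 0) {g : S2} (hg : g ^ p = 1)
    (hd : dlt g = g⁻¹) : (∃ t, g = uniSL t) ∨ ∃ t, g = lowSL t := by
  have h1 := congrArg Subtype.val hd
  rw [coe_dlt, show (g⁻¹ : S2).1 = g.1.adjugate from Matrix.SpecialLinearGroup.coe_inv g, adjugate_fin_two] at h1
  have h00 : g.1 0 0 = g.1 1 1 := by simpa using congrFun (congrFun h1 0) 0
  have ht : (g.1.trace) ^ p = 2 ^ p := by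
    have h2 : (g.1 - 1) ^ p = 0 := by
      rw [sub_pow_char_of_commute p (Commute.one_right _), one_pow, ← Matrix.SpecialLinearGroup.coe_pow, hg,
        Matrix.SpecialLinearGroup.coe_one, sub_self]
    have h3 := Matrix.isNilpotent_trace_of_isNilpotent ⟨p, h2⟩
    have h4 : (g.1 - 1).trace = 0 := h3.eq_zero
    rw [Matrix.trace_sub, Matrix.trace_one, Fintype.card_fin, sub_eq_zero] at h4
    rw [h4]; norm_num
  have h11 : g.1 0 0 = 1 := by
    have h5 := frobenius_inj F p (a₁ := g.1.trace) (a₂ := 2) ht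
    rw [Matrix.trace_fin_two, ← h00, ← two_mul] at h5
    exact mul_left_cancel₀ hp2 (h5.trans (mul_one 2).symm)
  have hdet := g.2
  rw [det_fin_two, ← h00, h11] at hdet
  have hbc : g.1 0 1 * g.1 1 0 = 0 := by linear_combination -hdet
  rcases mul_eq_zero.1 hbc with h | h
  · refine Or.inr ⟨g.1 1 0, Subtype.ext ?_⟩
    rw [coe_lowSL]
    ext i j
    fin_cases i <;> fin_cases j <;> simp [h, h11, ← h00]
  · refine Or.inl ⟨g.1 0 1, Subtype.ext ?_⟩
    rw [coe_uniSL]
    ext i j
    fin_cases i <;> fin_cases j <;> simp [h, h11, ← h00]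

/-- A root subgroup with parameters conjugated into the other one. -/
theorem eq_neg_one_of_conj {a b c s : F} (hc : c ≠ 0)
    (h : uniSL a * lowSL b * uniSL a * uniSL c = lowSL s * (uniSL a * lowSL b * uniSL a)) :
    a * b = -1 := by
  have h1 := congrArg (fun g : S2 => g.1 0 1) h
  simp [Matrix.mul_apply, Matrix.vecMul, dotProduct, Fin.sum_univ_two, coe_uniSL, coe_lowSL] at h1
  linear_combination h1.resolve_right hc

theorem conj_nn (t : F) (ht : t ≠ 0) :
    uniSL t * lowSL (-t⁻¹) * uniSL t * uniSL 1 =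
      lowSL (-(t ^ 2)⁻¹) * (uniSL t * lowSL (-t⁻¹) * uniSL t) := by
  refine Subtype.ext ?_
  simp only [Matrix.SpecialLinearGroup.coe_mul, coe_uniSL, coe_lowSL]
  ext i j
  fin_cases i <;> fin_cases j <;> simp [Matrix.mul_apply, Matrix.vecMul, dotProduct, Fin.sum_univ_two] <;> field_simp <;> first | (simp [ht]; done) | ring

theorem conj_hh (t s : F) (ht : t ≠ 0) :
    uniSL t * lowSL (-t⁻¹) * uniSL t * (uniSL (-1) * lowSL 1 * uniSL (-1)) * uniSL s =
      uniSL (t ^ 2 * s) * (uniSL t * lowSL (-t⁻¹) * uniSL t *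
        (uniSL (-1) * lowSL 1 * uniSL (-1))) := by
  refine Subtype.ext ?_
  simp only [Matrix.SpecialLinearGroup.coe_mul, coe_uniSL, coe_lowSL]
  ext i j
  fin_cases i <;> fin_cases j <;> simp [Matrix.mul_apply, Matrix.vecMul, dotProduct, Fin.sum_univ_two] <;> field_simp <;> first | (simp [ht]; done) | ring

/-- Two diagonal scalings of the two blocks. -/
def dg2 (a : Fˣ) : GL (Fin 2) F :=
  ⟨!![(a : F), 0; 0, 1], !![((a⁻¹ : Fˣ) : F), 0; 0, 1], by simp [one_fin_two],
    by simp [one_fin_two]⟩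

/-- The scaling on `SL₃`. -/
def dg3 (a : Fˣ) : GL (Fin 3) F :=
  ⟨!![(a : F), 0, 0; 0, 1, 0; 0, 0, 1], !![((a⁻¹ : Fˣ) : F), 0, 0; 0, 1, 0; 0, 0, 1],
    by simp [one_fin_three], by simp [one_fin_three]⟩

theorem conjSL_dg3_B01 (a : Fˣ) (g : S2) : conjSL (dg3 a) (B01 g) = B01 (conjSL (dg2 a) g) := by
  refine Subtype.ext ?_
  rw [conjSL_coe, coe_B01, coe_B01, conjSL_coe]
  change !![(a : F), 0, 0; 0, 1, 0; 0, 0, 1] * _ * !![((a⁻¹ : Fˣ) : F), 0, 0; 0, 1, 0; 0, 0, 1] = _
  ext i j
  fin_cases i <;> fin_cases j <;>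
    simp [Matrix.mul_apply, Matrix.vecMul, dotProduct, Fin.sum_univ_three, Fin.sum_univ_two, dg2]

theorem conjSL_dg3_B12 (a : Fˣ) (g : S2) : conjSL (dg3 a) (B12 g) = B12 g := by
  refine Subtype.ext ?_
  rw [conjSL_coe, coe_B12]
  change !![(a : F), 0, 0; 0, 1, 0; 0, 0, 1] * _ * !![((a⁻¹ : Fˣ) : F), 0, 0; 0, 1, 0; 0, 0, 1] = _
  ext i j
  fin_cases i <;> fin_cases j <;> simp [Matrix.mul_apply, Matrix.vecMul, dotProduct, Fin.sum_univ_three]

theorem fieldSL_B01 (f : F ≃+* F) (g : S2) : fieldSL f (B01 g) = B01 (fieldSL f g) := by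
  refine Subtype.ext ?_
  rw [fieldSL_coe, coe_B01, coe_B01, fieldSL_coe]
  ext i j
  fin_cases i <;> fin_cases j <;> simp

theorem fieldSL_B12 (f : F ≃+* F) (g : S2) : fieldSL f (B12 g) = B12 (fieldSL f g) := by
  refine Subtype.ext ?_
  rw [fieldSL_coe, coe_B12, coe_B12, fieldSL_coe]
  ext i j
  fin_cases i <;> fin_cases j <;> simp

theorem iota_B01 (g : S2) : iotaSL (B01 g) = B01 (iotaSL g) := by
  show (B01 g)⁻¹.transpose = B01 (g⁻¹).transpose
  rw [← map_inv]
  refine Subtype.ext ?_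
  show (B01 g⁻¹ : M3)ᵀ = _
  rw [coe_B01, coe_B01]
  ext i j
  fin_cases i <;> fin_cases j <;> simp [Matrix.SpecialLinearGroup.transpose]

theorem iota_B12 (g : S2) : iotaSL (B12 g) = B12 (iotaSL g) := by
  show (B12 g)⁻¹.transpose = B12 (g⁻¹).transpose
  rw [← map_inv]
  refine Subtype.ext ?_
  show (B12 g⁻¹ : M3)ᵀ = _
  rw [coe_B12, coe_B12]
  ext i j
  fin_cases i <;> fin_cases j <;> simp [Matrix.SpecialLinearGroup.transpose]

theorem iota_uniSL (t : F) : iotaSL (uniSL t) = lowSL (-t) := by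
  show (uniSL t)⁻¹.transpose = _
  rw [uniSL_inv]
  refine Subtype.ext ?_
  show (uniSL (-t) : M2)ᵀ = _
  rw [coe_uniSL, coe_lowSL]
  ext i j
  fin_cases i <;> fin_cases j <;> simp

theorem iota_lowSL (t : F) : iotaSL (lowSL t) = uniSL (-t) := by
  rw [← neg_neg t, ← iota_uniSL (-t)]
  show ((uniSL (-t))⁻¹.transpose)⁻¹.transpose = _
  rw [← transpose_inv_SL, inv_inv, transpose_transpose_SL, neg_neg]

/-- An automorphism of `SL₂` fixing both root subgroups is diagonal times field. -/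
theorem aut_eq_of_fix {p : ℕ} [Fact p.Prime] [CharP F p] [Finite F] (h2 : (2 : F) ≠ 0)
    (α : MulAut S2) (hu : ∀ t, ∃ s, α (uniSL t) = uniSL s) (hl : ∀ t, ∃ s, α (lowSL t) = lowSL s) :
    ∃ (a : Fˣ) (f : F ≃+* F), ∀ g, α g = conjSL (dg2 a) (fieldSL f g) := by
  choose φ hφ using hu
  choose ψ hψ using hl
  have hadd : ∀ s t, φ (s + t) = φ s + φ t := fun s t => uniSL_inj (by
    rw [← hφ, ← uniSL_mul, ← uniSL_mul, map_mul, hφ, hφ])
  have hψadd : ∀ s t, ψ (s + t) = ψ s + ψ t := fun s t => lowSL_inj (by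
    rw [← hψ, ← lowSL_mul, ← lowSL_mul, map_mul, hψ, hψ])
  have hinj : Function.Injective φ := fun s t h => uniSL_inj (α.injective (by rw [hφ, hφ, h]))
  have h0 : φ 0 = 0 := by simpa using hadd 0 0
  have hne : ∀ {t}, t ≠ 0 → φ t ≠ 0 := fun ht h => ht (hinj (h.trans h0.symm))
  have hφneg : ∀ t, φ (-t) = -φ t := fun t => by
    have := hadd t (-t); rw [add_neg_cancel, h0] at this; linear_combination -this
  have hrel : ∀ t, t ≠ 0 → φ t * ψ (-t⁻¹) = -1 := by
    intro t ht
    refine eq_neg_one_of_conj (hne one_ne_zero) (s := ψ (-(t ^ 2)⁻¹)) ?_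
    have h := congrArg α (conj_nn t ht)
    simp only [map_mul, hφ, hψ] at h
    exact h
  obtain ⟨a, ha⟩ : ∃ a : Fˣ, (a : F) = φ 1 := ⟨Units.mk0 _ (hne one_ne_zero), rfl⟩
  obtain ⟨f0, hf0⟩ : ∃ f0 : F → F, ∀ t, f0 t = φ t / φ 1 := ⟨_, fun _ => rfl⟩
  have hψ1 : ψ 1 = (φ 1)⁻¹ := by
    have h := hrel (-1) (by simp)
    rw [hφneg, inv_neg, inv_one, neg_neg] at h
    refine eq_inv_of_mul_eq_one_left ?_
    linear_combination -h
  have hsq : ∀ t s, t ≠ 0 → f0 (t ^ 2 * s) = f0 t ^ 2 * f0 s := by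
    intro t s ht
    have h := congrArg α (conj_hh t s ht)
    simp only [map_mul, hφ, hψ, hφneg, hψ1] at h
    have h2' : ψ (-t⁻¹) = -(φ t)⁻¹ := by
      have := hrel t ht
      refine mul_left_cancel₀ (hne ht) ?_
      rw [this, mul_neg, mul_inv_cancel₀ (hne ht)]
    rw [h2'] at h
    have h1 := congrArg (fun g : S2 => g.1 0 1) h
    simp [Matrix.mul_apply, Matrix.vecMul, dotProduct, Fin.sum_univ_two, coe_uniSL, coe_lowSL] at h1
    have e1 := hne one_ne_zero
    have e2 := hne ht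
    rw [hf0, hf0, hf0]
    generalize φ 1 = c at h1 e1 ⊢
    generalize φ t = x at h1 e2 ⊢
    generalize φ (t ^ 2 * s) = w at h1 ⊢
    generalize φ s = y at h1 ⊢
    field_simp at h1 ⊢
    linear_combination -h1
  have hf0add : ∀ s t, f0 (s + t) = f0 s + f0 t := fun s t => by
    rw [hf0, hf0, hf0, hadd, add_div]
  have hf01 : f0 1 = 1 := by rw [hf0]; exact div_self (hne one_ne_zero)
  have hsq1 : ∀ t, f0 (t ^ 2) = f0 t ^ 2 := fun t => by
    rcases eq_or_ne t 0 with rfl | ht
    · simp [hf0, h0]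
    · have := hsq t 1 ht; rwa [mul_one, hf01, mul_one] at this
  have hmul : ∀ s t, f0 (s * t) = f0 s * f0 t := by
    intro s t
    have h := hsq1 (s + t)
    rw [show (s + t) ^ 2 = s ^ 2 + s * t + s * t + t ^ 2 by ring, hf0add, hf0add, hf0add, hsq1,
      hsq1, hf0add] at h
    refine mul_left_cancel₀ h2 ?_
    linear_combination h
  let fh : F →+* F :=
    { toFun := f0
      map_one' := hf01
      map_mul' := hmul
      map_zero' := by rw [hf0, h0, zero_div]
      map_add' := hf0add }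
  let f : F ≃+* F := RingEquiv.ofBijective fh
    (Finite.injective_iff_bijective.1 fh.injective)
  have hfe : ∀ t, f t = φ t / φ 1 := hf0
  refine ⟨a, f, fun g => ?_⟩
  have key := hom_ext (f := α.toMonoidHom)
    (g := ((fieldSL f).trans (conjSL (dg2 a))).toMonoidHom) (fun t => ?_) (fun t => ?_)
  · exact DFunLike.congr_fun key g
  · show α (uniSL t) = conjSL (dg2 a) (fieldSL f (uniSL t))
    rw [hφ]
    refine Subtype.ext ?_
    rw [conjSL_coe, fieldSL_coe, coe_uniSL, coe_uniSL]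
    change _ = !![(a : F), 0; 0, 1] * _ * !![((a⁻¹ : Fˣ) : F), 0; 0, 1]
    ext i j
    fin_cases i <;> fin_cases j <;> simp [Matrix.mul_apply, Matrix.vecMul, dotProduct, Fin.sum_univ_two]
    rw [hfe, ha]; field_simp [hne one_ne_zero]
  · show α (lowSL t) = conjSL (dg2 a) (fieldSL f (lowSL t))
    rw [hψ]
    refine Subtype.ext ?_
    rw [conjSL_coe, fieldSL_coe, coe_lowSL, coe_lowSL]
    change _ = !![(a : F), 0; 0, 1] * _ * !![((a⁻¹ : Fˣ) : F), 0; 0, 1]
    have key2 : ψ t = f t * ((a⁻¹ : Fˣ) : F) := by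
      rw [Units.val_inv_eq_inv_val, ha, hfe]
      rcases eq_or_ne t 0 with rfl | ht
      · have : ψ 0 = 0 := by simpa using hψadd 0 0
        simp [this, h0]
      · have h3 := hrel (-t⁻¹) (by simp [ht])
        rw [inv_neg, inv_inv, neg_neg, hφneg] at h3
        have e1 := hne one_ne_zero
        have e2 := hne (inv_ne_zero ht)
        have h4 := hmul t t⁻¹
        rw [mul_inv_cancel₀ ht, hf01, hf0, hf0] at h4
        generalize φ t⁻¹ = u at h3 h4 e2
        generalize φ t = x at h4 ⊢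
        generalize ψ t = w at h3 ⊢
        generalize φ 1 = c at h4 e1 ⊢
        field_simp at h4 ⊢
        linear_combination (-x) * h3 + w * h4
    ext i j
    fin_cases i <;> fin_cases j <;> simp [Matrix.mul_apply, Matrix.vecMul, dotProduct, Fin.sum_univ_two, key2]

end Cfsg.Agent.Chevalley.SingleBond
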